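import Cfsg.Agent.Lib.Comp.G23x.MuH0_0
import Cfsg.Agent.Lib.Comp.G23x.MuH0_1
import Cfsg.Agent.Lib.Comp.G23x.MuH0_2
import Cfsg.Agent.Lib.Comp.G23x.MuH0_3
import Cfsg.Agent.Lib.Comp.G23x.Mu0
import Cfsg.Agent.Lib.Comp.G23x.Main
import Cfsg.Agent.Lib.Comp.Cover

set_option maxRecDepth 100000
set_option Elab.async false

namespace Cfsg.Lib.Comp.G23x

universe u

theorem MuH0_3_ord : Ord.{u} iv MuH0_3_R [1,2] 3 :=
  (MuH0_3_idx.ord_base).of_cons (cons_of_subset (by decide +kernel))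

theorem MuH0_2_ord : Ord.{u} iv MuH0_2_R [1,2,3,4] 9 :=
  (MuH0_2_idx.ord_step MuH0_3_ord).of_cons (cons_of_subset (by decide +kernel))

theorem MuH0_1_ord : Ord.{u} iv MuH0_1_R [1,2,3,4,5,6] 27 :=
  (MuH0_1_idx.ord_step MuH0_2_ord).of_cons (cons_of_subset (by decide +kernel))

theorem MuH0_0_ord : Ord.{u} iv MuH0_0_R [1,2,3,4,5,6,7,8] 216 :=
  (MuH0_0_idx.ord_step MuH0_1_ord).of_cons (cons_of_subset (by decide +kernel))

noncomputable def MuH0_lb_n_1 : Net :=
 (Net.cons 1 (nat_lit 0x84)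
 (Net.cons 1 (nat_lit 0x48)
 Net.nil))

noncomputable def MuH0_lb_n_3 : Net :=
 (Net.cons 1 (nat_lit 0x5)
 (Net.cons 1 (nat_lit 0x8)
 (Net.cons 5 (nat_lit 0x1)
 Net.nil)))

noncomputable def MuH0_lb_n_5 : Net :=
 (Net.cons 5 (nat_lit 0x18)
 (Net.cons 1 (nat_lit 0x24)
 (Net.cons 1 (nat_lit 0x42)
 (Net.cons 1 (nat_lit 0x85)
 (Net.cons 1 (nat_lit 0x102)
 (Net.cons 5 (nat_lit 0x13)
 Net.nil))))))

noncomputable def MuH0_lb_n_7 : Net :=
 (Net.cons 5 (nat_lit 0x4)
 (Net.cons 1 (nat_lit 0xa4)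
 (Net.cons 1 (nat_lit 0x48)
 (Net.cons 1 (nat_lit 0x24)
 (Net.cons 1 (nat_lit 0x2)
 (Net.cons 5 (nat_lit 0x4)
 Net.nil))))))

noncomputable def MuH0_lb_n : List Net := [Net.nil,
 MuH0_lb_n_1,
 Net.rev MuH0_lb_n_1,
 MuH0_lb_n_3,
 Net.rev MuH0_lb_n_3,
 MuH0_lb_n_5,
 Net.rev MuH0_lb_n_5,
 MuH0_lb_n_7,
 Net.rev MuH0_lb_n_7]

theorem MuH0_lb_n_ok : NetsOK 10 MuH0_lb_n := netsOK_of (by decide +kernel)

theorem MuH0_lb : 216 ≤ Nat.card (cl (gp nets) [1,2,3,4,5,6,7,8]) :=
  lb_of_itwB (k := 4) (n := 9) nets_ok MuH0_lb_n_ok (by norm_num) (by norm_num) (tbA_pt nets_ok) (tbA_pt MuH0_lb_n_ok) (φ := look2 (nat_lit 0x1200013000110000c000100000e0000f0000d0000b) 20 64) (by decide +kernel) (by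
    rw [← cl_eq_of_slpB (k := 4) (D := []) MuH0_lb_n_ok (by norm_num) (by decide +kernel)]
    exact lb_of_chainB MuH0_lb_n_ok (C := [([1,2,7,8],[3,5,5,1,3],0,0,9),
 ([1,2],[7,1,7,1,1],1,1,8),
 ([],[1,1],2,2,3)]) (by decide +kernel))

theorem Mu_mb : MB (cl (gp nets) L) 1638 3 :=
  mb_cyc (w := 30) (n := 21) (La := L) (ix := nth 0 [0,0,0,0,0,0,0,0,0,9,13]) (by norm_num) (by norm_num) (nets_iv.sval _) (nets_rel.sval fun r hr x hx => mem_cl (sub_of_allR (by decide +kernel) r hr x hx)) (by decide +kernel)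
    (TStep.trans (TStep.trans (TStep.trans (TStep.trans (TStep.trans (TStep.trans (TStep.trans (TStep.trans (TStep.trans (TStep.trans (TStep.trans (TStep.trans (TStep.trans (TStep.trans (TStep.trans (TStep.trans (TStep.repar (k' := 15) (by norm_num) (by norm_num) (by decide +kernel) (by decide +kernel) Mu1_b)
    (TStep.enum0 (by norm_num) (by norm_num) Mu2_0 (Gs := Mu2G) (by decide +kernel)))
    (TStep.repar (k' := 14) (by norm_num) (by norm_num) (by decide +kernel) (by decide +kernel) Mu3_b))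
    (TStep.enum0 (by norm_num) (by norm_num) Mu4_0 (Gs := Mu4G) (by decide +kernel)))
    (TStep.repar (k' := 13) (by norm_num) (by norm_num) (by decide +kernel) (by decide +kernel) Mu5_b))
    (TStep.enum0 (by norm_num) (by norm_num) Mu6_0 (Gs := Mu6G) (by decide +kernel)))
    (TStep.repar (k' := 11) (by norm_num) (by norm_num) (by decide +kernel) (by decide +kernel) Mu7_b))
    (TStep.enum0 (by norm_num) (by norm_num) Mu8_0 (Gs := Mu8G) (by decide +kernel)))
    (TStep.repar (k' := 7) (by norm_num) (by norm_num) (by decide +kernel) (by decide +kernel) Mu9_b))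
    (TStep.enum0 (by norm_num) (by norm_num) Mu10_0 (Gs := Mu10G) (by decide +kernel)))
    (TStep.repar (k' := 3) (by norm_num) (by norm_num) (by decide +kernel) (by decide +kernel) Mu11_b))
    (TStep.enum0 (by norm_num) (by norm_num) Mu12_0 (Gs := Mu12G) (by decide +kernel)))
    (TStep.repar (k' := 3) (by norm_num) (by norm_num) (by decide +kernel) (by decide +kernel) Mu13_b))
    (TStep.repar (k' := 3) (by norm_num) (by norm_num) (by decide +kernel) (by decide +kernel) Mu14_b))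
    (TStep.enum (by norm_num) (by norm_num) Mu15_0 (I := [0,1,2,3,4,5,6,7,8,17,18,19,20]) (by decide +kernel) (by decide +kernel) MuH0_0_ord (c := 1) (lb_sval (fun _ hx => mem_cl (sub_of_subB (by decide +kernel) _ hx)) MuH0_lb (by norm_num)) (Gs := Mu15G) (by decide +kernel)))
    (TStep.repar (k' := 1) (by norm_num) (by norm_num) (by decide +kernel) (by decide +kernel) Mu16_b))
    (TStep.cons (by norm_num) (by norm_num) (c := (nat_lit 0x1)) (v := 3) (by decide +kernel) (by decide +kernel)))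
    (by norm_num) List.mem_cons_self (by norm_num)
    (TStep.repar (k' := 0) (by norm_num) (by norm_num) (by decide +kernel) (by decide +kernel) Mu18_b)
    (L := [1,2,3,4,5,6,7,8,9,10]) (I := [0,1,2,3,4,5,6,7,8,9,10,11,12,13,14,15,16,17,18,19,20]) (by decide +kernel) (by decide +kernel) ord card.ge (cl_sval_top _ _)

end Cfsg.Lib.Comp.G23x
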