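import Cfsg.Agent.Lib.Comp.G23x.Base

set_option maxRecDepth 100000
set_option Elab.async false

namespace Cfsg.Lib.Comp.G23x

universe u

noncomputable def MuH0_0_R : List (List ℕ × ℕ) := [([1],2),
 ([3],2),
 ([1,3,2,4],0),
 ([5],2),
 ([1,6,3,5],0),
 ([1,4,5,4,6],0),
 ([7],2),
 ([1,3,7,2,5,8],0),
 ([1,7,2,7,1,8],0),
 ([1,2],0),
 ([3,4],0),
 ([5,6],0),
 ([7,8],0)]

noncomputable def MuH0_0_n_1 : Net :=
 (Net.cons 4 (nat_lit 0xa)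
 (Net.cons 2 (nat_lit 0x22)
 (Net.cons 1 (nat_lit 0x14)
 (Net.cons 2 (nat_lit 0x2)
 (Net.cons 4 (nat_lit 0xe)
 Net.nil)))))

noncomputable def MuH0_0_n_3 : Net :=
 (Net.cons 4 (nat_lit 0xe)
 (Net.cons 2 (nat_lit 0x2)
 (Net.cons 1 (nat_lit 0x14)
 (Net.cons 2 (nat_lit 0x22)
 (Net.cons 4 (nat_lit 0xa)
 Net.nil)))))

noncomputable def MuH0_0_n_5 : Net :=
 (Net.cons 4 (nat_lit 0xa)
 (Net.cons 2 (nat_lit 0x22)
 (Net.cons 1 (nat_lit 0x14)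
 (Net.cons 2 (nat_lit 0x2)
 (Net.cons 4 (nat_lit 0xe)
 Net.nil)))))

noncomputable def MuH0_0_n_7 : Net :=
 (Net.cons 1 (nat_lit 0x41)
 (Net.cons 2 (nat_lit 0x1)
 (Net.cons 4 (nat_lit 0x8)
 Net.nil)))

noncomputable def MuH0_0_n : List Net := [Net.nil,
 MuH0_0_n_1,
 Net.rev MuH0_0_n_1,
 MuH0_0_n_3,
 Net.rev MuH0_0_n_3,
 MuH0_0_n_5,
 Net.rev MuH0_0_n_5,
 MuH0_0_n_7,
 Net.rev MuH0_0_n_7]

theorem MuH0_0_n_ok : NetsOK 8 MuH0_0_n := netsOK_of (by decide +kernel)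

theorem MuH0_0_n_rel : Rels (gp MuH0_0_n) MuH0_0_R := rels_of_relsB (k := 3) MuH0_0_n_ok (by norm_num) (by decide +kernel)

theorem MuH0_0_fin : finB 8 MuH0_0_n [1,2,3,4,5,6,7,8] 8 (runH 8 MuH0_0_n (fun x p => ptInv (nth Net.nil MuH0_0_n x) p) iv MuH0_0_R [] ([1,2,3,4,5,6].map fun x => [x]) 0 []
  [1,5,9,13,17,21,36,48,0,24,28,32,36,40,44,48,8,24,28,32,40,44,48,16,28,40,44,8,12,16,20,28,40,44]
  (defsH 8 MuH0_0_n (ones 88) [7,8,1,2,7] (Nat.shiftLeft 1 0) 0)) = true := by decide +kernel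

theorem MuH0_0_idx : Idx.{u} iv (MuH0_0_R ++ []) ([1,2,3,4,5,6].map fun x => [x]) [1,2,3,4,5,6,7,8] 8 :=
  Reach.idx MuH0_0_n_ok (reach_runH MuH0_0_n_ok (fun x p _ => ptInv_gp MuH0_0_n_ok x p) MuH0_0_n_rel (reach_defsH MuH0_0_n_ok _ _ _ _ _ _) _ _) MuH0_0_fin (by norm_num)

end Cfsg.Lib.Comp.G23x
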